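import Groth.Agent.NonAbLib.HopfTorsor.Sub
import Groth.Agent.GrpSchLib.ProPoints
import Groth.Agent.S4103
import Mathlib.RingTheory.Flat.FaithfullyFlat.Basic

/-!
# A torsor of an affine group over an algebraically closed field has a point

The point is built by Zorn's lemma on the sub-Hopf-algebras `S`, with the points of the quotient
torsors `BA δ S`.
-/

set_option autoImplicit false
set_option linter.style.haveILetI false

universe u

open TensorProduct

noncomputable section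

namespace Groth.Agent.NonAbLib.HopfTorsor

variable {k : Type u} [Field k] {A B : Type u} [CommRing A] [HopfAlgebra k A] [CommRing B] [Algebra k B]
  {δ : B →ₐ[k] A ⊗[k] B}

theorem exists_functional [Nontrivial B] : ∃ φ : B →ₗ[k] k, φ 1 = 1 := by
  obtain ⟨φ, hφ⟩ := (Algebra.linearMap k B).exists_leftInverse_of_injective
    (LinearMap.ker_eq_bot.2 (algebraMap k B).injective)
  exact ⟨φ, by simpa using LinearMap.congr_fun hφ 1⟩

/-- An element of `R ⊗ B` of the form `x ⊗ 1` has `x ∈ R`. -/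
theorem mem_of_tmul_one_mem [Nontrivial B] {R : Subalgebra k B} {x : B}
    (hx : x ⊗ₜ[k] (1 : B) ∈ (Algebra.TensorProduct.map R.val (AlgHom.id k B)).range) : x ∈ R := by
  obtain ⟨φ, hφ⟩ := exists_functional (k := k) (B := B)
  obtain ⟨z, hz⟩ := hx
  let ψ : B ⊗[k] B →ₗ[k] B := (TensorProduct.rid k B).toLinearMap ∘ₗ φ.lTensor B
  have h : ∀ z, ψ (Algebra.TensorProduct.map R.val (AlgHom.id k B) z) ∈ R := fun z => by
    induction z using TensorProduct.induction_on with
    | zero => rw [map_zero, map_zero]; exact zero_mem _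
    | tmul r c => exact R.smul_mem r.2 (φ c)
    | add x y hx hy => rw [map_add, map_add]; exact add_mem hx hy
  have := h z
  rw [show (Algebra.TensorProduct.map R.val (AlgHom.id k B)) z = x ⊗ₜ 1 from hz] at this
  simpa [ψ, hφ] using this

theorem exists_finset_range {R : Subalgebra k B} {z : B ⊗[k] B}
    (hz : z ∈ (Algebra.TensorProduct.map R.val (AlgHom.id k B)).range) :
    ∃ F : Finset B, ↑F ⊆ (R : Set B) ∧
      z ∈ (Algebra.TensorProduct.map (Algebra.adjoin k (F : Set B)).val (AlgHom.id k B)).range := by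
  classical
  obtain ⟨y, rfl⟩ := hz
  induction y using TensorProduct.induction_on with
  | zero => exact ⟨∅, by simp, ⟨0, (map_zero _).trans (map_zero _).symm⟩⟩
  | tmul r c => exact ⟨{r.1}, by simp, ⟨⟨r.1, Algebra.subset_adjoin (by simp)⟩ ⊗ₜ c, rfl⟩⟩
  | add x y hx hy =>
    obtain ⟨F, hF, hx⟩ := hx
    obtain ⟨F', hF', hy⟩ := hy
    have mono : ∀ {F G : Finset B}, F ⊆ G → ∀ {w : B ⊗[k] B},
        w ∈ (Algebra.TensorProduct.map (Algebra.adjoin k (F : Set B)).val (AlgHom.id k B)).range →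
        w ∈ (Algebra.TensorProduct.map (Algebra.adjoin k (G : Set B)).val (AlgHom.id k B)).range := by
      rintro F G hFG _ ⟨v, rfl⟩
      exact ⟨Algebra.TensorProduct.map (Subalgebra.inclusion (Algebra.adjoin_mono (Finset.coe_subset.2 hFG)))
        (AlgHom.id k B) v, by
          induction v using TensorProduct.induction_on with
          | zero => simp
          | tmul a b => rfl
          | add x y hx hy => simp only [map_add, hx, hy]⟩
    refine ⟨F ∪ F', by simp [Set.union_subset hF hF'], ?_⟩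
    rw [map_add]
    exact add_mem (mono Finset.subset_union_left hx) (mono Finset.subset_union_right hy)

variable (hco : IsCoassoc δ) (hΘ : Function.Bijective (Θ δ))

include hco hΘ in
/-- `BA δ (S ⊔ D)` is finitely generated over `BA δ S` for finitely generated `D`. -/
theorem exists_generators [Nontrivial B] {S D : Subalgebra k A} (hS : SGA3.IsHopfSubalgebra k A S)
    (hDf : D.FG) (hSD : SGA3.IsHopfSubalgebra k A (S ⊔ D)) :
    ∃ F : Finset B, ↑F ⊆ (BA δ (S ⊔ D) : Set B) ∧ BA δ (S ⊔ D) ≤ BA δ S ⊔ Algebra.adjoin k (F : Set B) := by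
  classical
  obtain ⟨T, rfl⟩ := hDf
  have hch : ∀ d : T, ∃ F : Finset B, ↑F ⊆ (BA δ (S ⊔ Algebra.adjoin k (T : Set A)) : Set B) ∧
      ∃ z ∈ (Algebra.TensorProduct.map (Algebra.adjoin k (F : Set B)).val (AlgHom.id k B)).range,
        Θ δ z = d.1 ⊗ₜ[k] 1 := fun d => by
    obtain ⟨z, hz, hz'⟩ := exists_preimage hco hΘ hSD
      (tmul_mem_inT (le_sup_right (a := S) (Algebra.subset_adjoin d.2)) (1 : B))
    obtain ⟨F, hF, hzF⟩ := exists_finset_range hz
    exact ⟨F, hF, z, hzF, hz'⟩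
  choose F hF z hz hz' using hch
  let G : Finset B := T.attach.biUnion F
  let E : Subalgebra k B := BA δ S ⊔ Algebra.adjoin k (G : Set B)
  refine ⟨G, ?_, ?_⟩
  · intro x hx
    obtain ⟨d, -, hd⟩ := Finset.mem_biUnion.1 hx
    exact hF d hd
  let R : Subalgebra k (A ⊗[k] B) := (Algebra.TensorProduct.map E.val (AlgHom.id k B)).range.map (Θ δ)
  have hmono : ∀ {E' : Subalgebra k B}, E' ≤ E → ∀ {w : B ⊗[k] B},
      w ∈ (Algebra.TensorProduct.map E'.val (AlgHom.id k B)).range → Θ δ w ∈ R := by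
    rintro E' hle _ ⟨v, rfl⟩
    refine ⟨_, ⟨Algebra.TensorProduct.map (Subalgebra.inclusion hle) (AlgHom.id k B) v, rfl⟩, congrArg (Θ δ) ?_⟩
    induction v using TensorProduct.induction_on with
    | zero => simp
    | tmul a b => rfl
    | add x y hx hy => simp only [map_add, hx, hy]
  have h1 : S ⊔ Algebra.adjoin k (T : Set A) ≤ R.comap Algebra.TensorProduct.includeLeft := by
    refine sup_le (fun s hs => ?_) (Algebra.adjoin_le fun d hd => ?_)
    · obtain ⟨w, hw, hw'⟩ := exists_preimage hco hΘ hS (tmul_mem_inT hs (1 : B))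
      show s ⊗ₜ[k] (1 : B) ∈ R
      rw [← hw']
      exact hmono le_sup_left hw
    · show d ⊗ₜ[k] (1 : B) ∈ R
      rw [← hz' ⟨d, hd⟩]
      exact hmono ((Algebra.adjoin_mono (Finset.coe_subset.2
        (Finset.subset_biUnion_of_mem F (Finset.mem_attach _ _)))).trans le_sup_right) (hz _)
  have h2 : inT B (S ⊔ Algebra.adjoin k (T : Set A)) ≤ R := by
    rintro _ ⟨v, rfl⟩
    induction v using TensorProduct.induction_on with
    | zero => simp
    | add x y hx hy => rw [map_add]; exact add_mem hx hy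
    | tmul s c =>
      have hc : (1 : A) ⊗ₜ[k] c ∈ R :=
        ⟨1 ⊗ₜ c, ⟨1 ⊗ₜ c, rfl⟩, show δ 1 * ((1 : A) ⊗ₜ c) = _ by rw [map_one, one_mul]⟩
      have := mul_mem (show (s : A) ⊗ₜ[k] (1 : B) ∈ R from h1 s.2) hc
      simpa [Algebra.TensorProduct.tmul_mul_tmul] using this
  intro x hx
  obtain ⟨w, hw, hw'⟩ := h2 hx
  have : Θ δ w = Θ δ (x ⊗ₜ 1) := by
    rw [Θ_tmul, ← Algebra.TensorProduct.one_def, mul_one]; exact hw'
  exact mem_of_tmul_one_mem (hΘ.1 this ▸ hw)

include hco hΘ in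
/-- A point of `BA δ S` gives a retraction `S ⊗ B → B`. -/
theorem exists_rho {S : Subalgebra k A} (hS : SGA3.IsHopfSubalgebra k A S) (ξ : BA δ S →ₐ[k] k) :
    ∃ ρ : S ⊗[k] B →ₐ[k] B, (∀ c, ρ (1 ⊗ₜ c) = c) ∧
      ∀ y (b : BA δ S), Algebra.TensorProduct.map S.val (AlgHom.id k B) y = δ b → ρ y = algebraMap k B (ξ b) := by
  let ι := Algebra.TensorProduct.map S.val (AlgHom.id k B)
  let j := (Θ δ).comp (Algebra.TensorProduct.map (BA δ S).val (AlgHom.id k B))
  have hj : Function.Injective j :=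
    hΘ.1.comp (GrpSchLib.SubHopf.map_val_injective _ _ Subtype.val_injective fun _ _ h => h)
  have hle : ι.range ≤ j.range := fun w hw => by
    obtain ⟨z, ⟨v, rfl⟩, hz⟩ := exists_preimage hco hΘ hS hw
    exact ⟨v, hz⟩
  let ξB : BA δ S ⊗[k] B →ₐ[k] B :=
    Algebra.TensorProduct.productMap ((Algebra.ofId k B).comp ξ) (AlgHom.id k B)
  let ρ : S ⊗[k] B →ₐ[k] B := ξB.comp
    ((AlgEquiv.ofInjective j hj).symm.toAlgHom.comp ((Subalgebra.inclusion hle).comp ι.rangeRestrict))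
  have key : ∀ y w, ι y = j w → ρ y = ξB w := fun y w h => by
    show ξB ((AlgEquiv.ofInjective j hj).symm _) = _
    congr 1
    rw [AlgEquiv.symm_apply_eq]
    exact Subtype.ext h
  refine ⟨ρ, fun c => ?_, fun y b hy => ?_⟩
  · rw [key _ (1 ⊗ₜ c) (by
      show (1 : A) ⊗ₜ c = δ 1 * ((1 : A) ⊗ₜ c)
      rw [map_one, one_mul])]
    simp [ξB]
  · rw [key y (b ⊗ₜ 1) (by
      show _ = δ b.1 * ((1 : A) ⊗ₜ 1)
      rw [← Algebra.TensorProduct.one_def, mul_one]; exact hy)]
    simp [ξB]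

include hco hΘ in
/-- The fibre of `BA δ (S ⊔ D)` over a point of `BA δ S` is not empty. -/
theorem exists_hom [Nontrivial B] {S : Subalgebra k A} (hS : SGA3.IsHopfSubalgebra k A S) (ξ : BA δ S →ₐ[k] k) :
    ∃ (C : Type u) (_ : CommRing C) (_ : Nontrivial C) (f : B →+* C), ∀ b : BA δ S, ξ b = 0 → f b = 0 := by
  obtain ⟨ρ, hρ1, hρ2⟩ := exists_rho hco hΘ hS ξ
  letI : Algebra S B := (ρ.comp Algebra.TensorProduct.includeLeft).toRingHom.toAlgebra
  haveI : IsScalarTower k S B := IsScalarTower.of_algebraMap_eq fun r =>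
    ((ρ.comp Algebra.TensorProduct.includeLeft).commutes r).symm
  haveI : Module.FaithfullyFlat S A := Groth.Agent.S4103.result k A S hS
  let χ : A ⊗[k] B →ₐ[k] A ⊗[S] B := Algebra.TensorProduct.productMap
    (Algebra.TensorProduct.includeLeft : A →ₐ[k] A ⊗[S] B)
    ((Algebra.TensorProduct.includeRight : B →ₐ[S] A ⊗[S] B).restrictScalars k)
  have hχ : ∀ y, χ (Algebra.TensorProduct.map S.val (AlgHom.id k B) y) = (1 : A) ⊗ₜ[S] ρ y := fun y => by
    induction y using TensorProduct.induction_on with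
    | zero => simp
    | add x y hx hy => simp only [map_add, hx, hy, tmul_add]
    | tmul s c =>
      have h1 : ρ (s ⊗ₜ c) = s • c := by
        rw [Algebra.smul_def, show algebraMap S B s = ρ (s ⊗ₜ 1) from rfl]
        conv_rhs => rw [← hρ1 c, ← map_mul, Algebra.TensorProduct.tmul_mul_tmul, mul_one, one_mul]
      show (s : A) ⊗ₜ[S] (1 : B) * ((1 : A) ⊗ₜ[S] c) = _
      rw [Algebra.TensorProduct.tmul_mul_tmul, mul_one, one_mul, h1, ← smul_tmul, Algebra.smul_def, mul_one]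
      rfl
  refine ⟨A ⊗[S] B, inferInstance, Module.FaithfullyFlat.lTensor_nontrivial S A B, (χ.comp δ).toRingHom,
    fun b hb => ?_⟩
  obtain ⟨y, hy⟩ : δ b.1 ∈ inT B S := b.2
  show χ (δ b.1) = 0
  rw [← hy]
  exact (hχ y).trans (by rw [hρ2 y b hy, hb, map_zero, tmul_zero])

variable [IsAlgClosed k]

include hco hΘ in
/-- Points extend along finitely generated enlargements. -/
theorem extend [Nontrivial B] {S D : Subalgebra k A} (hS : SGA3.IsHopfSubalgebra k A S) (hDf : D.FG)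
    (hD : SGA3.IsHopfSubalgebra k A D) (ξ : BA δ S →ₐ[k] k) :
    ∃ ξ' : BA δ (S ⊔ D) →ₐ[k] k, ∀ b : BA δ S, ξ' (Subalgebra.inclusion (BA_mono δ le_sup_left) b) = ξ b := by
  classical
  obtain ⟨F, hF, hgen⟩ := exists_generators hco hΘ hS hDf (GrpSchLib.ProPoints.isHopfSubalgebra_sup hS hD)
  obtain ⟨C, _, _, f, hf⟩ := exists_hom hco hΘ hS ξ
  let incl := Subalgebra.inclusion (BA_mono δ (le_sup_left : S ≤ S ⊔ D))
  let I : Ideal (BA δ (S ⊔ D)) := Ideal.span (Set.range fun b : BA δ S => incl (b - algebraMap k _ (ξ b)))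
  have hI : I ≠ ⊤ := by
    refine ne_top_of_le_ne_top (RingHom.ker_ne_top (f.comp (BA δ (S ⊔ D)).val.toRingHom)) ?_
    rw [Ideal.span_le]
    rintro _ ⟨b, rfl⟩
    exact RingHom.mem_ker.2 (hf (b - algebraMap k _ (ξ b)) (by simp))
  haveI : Nontrivial (BA δ (S ⊔ D) ⧸ I) := Ideal.Quotient.nontrivial_iff.mpr hI
  let π := Ideal.Quotient.mkₐ k I
  let F' : Finset (BA δ (S ⊔ D) ⧸ I) := F.attach.image fun e => π ⟨e.1, hF e.2⟩
  haveI : Algebra.FiniteType k (BA δ (S ⊔ D) ⧸ I) := by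
    refine ⟨F', eq_top_iff.2 fun q _ => ?_⟩
    obtain ⟨x, rfl⟩ := Ideal.Quotient.mk_surjective q
    have hle : BA δ S ⊔ Algebra.adjoin k (F : Set B) ≤
        ((Algebra.adjoin k (F' : Set _)).comap π).map (BA δ (S ⊔ D)).val := by
      refine sup_le (fun b hb => ⟨incl ⟨b, hb⟩, ?_, rfl⟩) (Algebra.adjoin_le fun e he => ?_)
      · show π (incl ⟨b, hb⟩) ∈ Algebra.adjoin k (F' : Set _)
        rw [show π (incl ⟨b, hb⟩) = algebraMap k _ (ξ ⟨b, hb⟩) by
          rw [← π.commutes, ← sub_eq_zero, ← map_sub, ← incl.commutes, ← map_sub]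
          exact Ideal.Quotient.eq_zero_iff_mem.mpr (Ideal.subset_span ⟨⟨b, hb⟩, rfl⟩)]
        exact Subalgebra.algebraMap_mem _ _
      · exact ⟨⟨e, hF he⟩, Algebra.subset_adjoin (Finset.mem_image.2 ⟨⟨e, he⟩, Finset.mem_attach _ _, rfl⟩), rfl⟩
    obtain ⟨x', hx', hxx'⟩ := hle (hgen x.2)
    rw [show x = x' from Subtype.ext hxx'.symm]
    exact hx'
  obtain ⟨χ, -⟩ := GrpSchLib.ProPoints.exists_point_of_ne_top (k := k) (bot_ne_top : (⊥ : Ideal (BA δ (S ⊔ D) ⧸ I)) ≠ ⊤)
  refine ⟨χ.comp π, fun b => ?_⟩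
  show χ (π (incl b)) = ξ b
  rw [show π (incl b) = algebraMap k _ (ξ b) by
    rw [← π.commutes, ← sub_eq_zero, ← map_sub, ← incl.commutes, ← map_sub]
    exact Ideal.Quotient.eq_zero_iff_mem.mpr (Ideal.subset_span ⟨b, rfl⟩), AlgHom.commutes]
  rfl

/-- A sub-Hopf-algebra with a point of the quotient torsor. -/
structure Pt (δ : B →ₐ[k] A ⊗[k] B) where
  /-- the sub-Hopf-algebra -/
  S : Subalgebra k A
  hS : SGA3.IsHopfSubalgebra k A S
  /-- the point -/
  ξ : BA δ S →ₐ[k] k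

instance : Preorder (Pt δ) where
  le P Q := ∃ h : P.S ≤ Q.S, ∀ b : BA δ P.S, Q.ξ (Subalgebra.inclusion (BA_mono δ h) b) = P.ξ b
  le_refl _ := ⟨le_rfl, fun _ => rfl⟩
  le_trans _ _ _ := fun ⟨h, h'⟩ ⟨g, g'⟩ => ⟨h.trans g, fun b => (g' _).trans (h' b)⟩

omit [IsAlgClosed k] in
theorem bddAbove (c : Set (Pt δ)) (hc : IsChain (· ≤ ·) c) (hne : c.Nonempty) : BddAbove c := by
  haveI : Nonempty c := hne.to_subtype
  have hd : Directed (· ≤ ·) fun P : c => P.1 := hc.directedOn.directed_val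
  have hdS : Directed (· ≤ ·) fun P : c => P.1.S := fun a b => by
    obtain ⟨d, h1, h2⟩ := hd a b
    exact ⟨d, h1.1, h2.1⟩
  have hdK : Directed (· ≤ ·) fun P : c => BA δ P.1.S := fun a b => by
    obtain ⟨d, h1, h2⟩ := hdS a b
    exact ⟨d, BA_mono δ h1, BA_mono δ h2⟩
  have hS : SGA3.IsHopfSubalgebra k A (⨆ P : c, P.1.S) := by
    constructor <;> intro a ha <;>
      rw [← SetLike.mem_coe, Subalgebra.coe_iSup_of_directed hdS, Set.mem_iUnion] at ha <;>
      obtain ⟨P, hP⟩ := ha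
    · obtain ⟨z, hz⟩ := P.1.hS.1 a hP
      refine ⟨TensorProduct.map (Subalgebra.inclusion (le_iSup (fun P : c => P.1.S) P)).toLinearMap
        (Subalgebra.inclusion (le_iSup (fun P : c => P.1.S) P)).toLinearMap z, ?_⟩
      rw [← LinearMap.comp_apply, ← TensorProduct.map_comp, ← hz]
      rfl
    · exact le_iSup (fun P : c => P.1.S) P (P.1.hS.2 a hP)
  have hT : BA δ (⨆ P : c, P.1.S) ≤ ⨆ P : c, BA δ P.1.S := fun b hb => by
    obtain ⟨P, hP⟩ := exists_mem_inT_of_iSup hdS hb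
    exact le_iSup (fun P : c => BA δ P.1.S) P hP
  have hf : ∀ (P Q : c) (h : BA δ P.1.S ≤ BA δ Q.1.S), P.1.ξ = Q.1.ξ.comp (Subalgebra.inclusion h) := by
    intro P Q h
    ext b
    obtain ⟨R, ⟨hPR, hPR'⟩, hQR, hQR'⟩ := hd P Q
    show P.1.ξ b = Q.1.ξ (Subalgebra.inclusion h b)
    rw [← hPR', ← hQR']
    rfl
  refine ⟨⟨_, hS, Subalgebra.iSupLift _ hdK (fun P : c => P.1.ξ) hf _ hT⟩, fun P hP => ?_⟩
  exact ⟨le_iSup (fun P : c => P.1.S) ⟨P, hP⟩, fun b =>
    Subalgebra.iSupLift_inclusion (K := fun P : c => BA δ P.1.S) (dir := hdK) (f := fun P : c => P.1.ξ) (hf := hf)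
      (T := BA δ (⨆ P : c, P.1.S)) (hT := hT) (i := ⟨P, hP⟩) b _⟩

include hco hΘ in
/-- A torsor of an affine group over an algebraically closed field has a point. -/
theorem exists_point [Nontrivial B] : Nonempty (B →ₐ[k] k) := by
  obtain ⟨φ, hφ⟩ := exists_functional (k := k) (B := B)
  have hbot : BA δ ⊥ ≤ ⊥ := fun b hb => by
    obtain ⟨z, hz⟩ : δ b ∈ inT B ⊥ := hb
    have hall : ∀ z, ∃ c, Algebra.TensorProduct.map (⊥ : Subalgebra k A).val (AlgHom.id k B) z = (1 : A) ⊗ₜ[k] c := by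
      intro z
      induction z using TensorProduct.induction_on with
      | zero => exact ⟨0, by simp⟩
      | tmul s c =>
        obtain ⟨r, hr⟩ := Algebra.mem_bot.1 s.2
        refine ⟨r • c, ?_⟩
        rw [Algebra.TensorProduct.map_tmul, AlgHom.id_apply, ← smul_tmul, ← Algebra.algebraMap_eq_smul_one]
        exact congrArg (· ⊗ₜ[k] c) hr.symm
      | add x y hx hy =>
        obtain ⟨c, hc⟩ := hx
        obtain ⟨d, hd⟩ := hy
        exact ⟨c + d, by rw [map_add, hc, hd, tmul_add]⟩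
    obtain ⟨c, hc⟩ := hall z
    have h1 : b ⊗ₜ[k] (1 : B) = 1 ⊗ₜ c := hΘ.1 (by
      rw [Θ_tmul, Θ_tmul, map_one, one_mul, ← Algebra.TensorProduct.one_def, mul_one, ← hc]
      exact hz.symm)
    have h2 := congrArg (fun t => TensorProduct.rid k B (φ.lTensor B t)) h1
    simp [hφ] at h2
    rw [h2]
    exact Subalgebra.smul_mem _ (one_mem _) _
  have hS0 : SGA3.IsHopfSubalgebra k A ⊥ := by
    constructor <;> intro a ha <;> obtain ⟨r, rfl⟩ := Algebra.mem_bot.1 ha
    · refine ⟨algebraMap k _ r ⊗ₜ 1, ?_⟩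
      show algebraMap k A r ⊗ₜ[k] (1 : A) = Bialgebra.comulAlgHom k A (algebraMap k A r)
      rw [AlgHom.commutes, Algebra.TensorProduct.algebraMap_apply]
    · show HopfAlgebra.antipodeAlgHom k A (algebraMap k A r) ∈ _
      rw [AlgHom.commutes]
      exact Subalgebra.algebraMap_mem _ _
  haveI : Nonempty (Pt δ) :=
    ⟨⟨⊥, hS0, (Algebra.botEquiv k B).toAlgHom.comp (Subalgebra.inclusion hbot)⟩⟩
  obtain ⟨P, hP⟩ := zorn_le_nonempty (α := Pt δ) fun c hc hne => bddAbove c hc hne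
  have htop : ∀ a : A, a ∈ P.S := fun a => by
    obtain ⟨D, haD, hDf, hD⟩ := Groth.Agent.S5375.result k A a
    obtain ⟨ξ', hξ'⟩ := extend hco hΘ P.hS hDf hD P.ξ
    obtain ⟨h, -⟩ := hP (b := ⟨_, GrpSchLib.ProPoints.isHopfSubalgebra_sup P.hS hD, ξ'⟩) ⟨le_sup_left, hξ'⟩
    exact h (le_sup_right (a := P.S) haD)
  exact ⟨P.ξ.comp ((AlgHom.id k B).codRestrict (BA δ P.S) fun b => by
    show δ b ∈ inT B P.S
    generalize δ b = x
    induction x using TensorProduct.induction_on with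
    | zero => exact zero_mem _
    | tmul a c => exact tmul_mem_inT (htop a) c
    | add x y hx hy => exact add_mem hx hy)⟩

end Groth.Agent.NonAbLib.HopfTorsor
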