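import Groth.Agent.NonAbLib.HopfTorsor.Point
import Groth.Agent.NonAbLib.FinGal.Pts
import Groth.Agent.SchTorsor.Props
import Groth.Agent.EtFound.Descent
import Groth.Prelude.Def_NonAbH2

/-!
# The coaction of a torsor of an affine group over a field
-/

set_option autoImplicit false
set_option linter.style.haveILetI false

universe u

open CategoryTheory CategoryTheory.Limits MonoidalCategory CartesianMonoidalCategory MonObj GrpObj AlgebraicGeometry
open TensorProduct WithConv Groth.Agent.H84WeilRes

noncomputable section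

namespace Groth.Agent.NonAbLib.HopfTorsor

open FinGal (specEquiv specProd specEquiv_comp specEquiv_left)

variable {k : Type u} [Field k] {B B' C : Type u} [CommRing B] [Algebra k B] [CommRing B'] [Algebra k B']
  [CommRing C] [Algebra k C]

theorem specProd_inv_fst :
    (specProd (k := k) (B := B) (B' := B')).inv ≫ fst _ _ =
      specEquiv (Algebra.TensorProduct.includeLeft : B →ₐ[k] B ⊗[k] B') :=
  Over.OverMorphism.ext (pullbackSpecIso_inv_fst k B B')

theorem specProd_inv_snd :
    (specProd (k := k) (B := B) (B' := B')).inv ≫ snd _ _ =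
      specEquiv (Algebra.TensorProduct.includeRight : B' →ₐ[k] B ⊗[k] B') :=
  Over.OverMorphism.ext (pullbackSpecIso_inv_snd k B B')

theorem specEquiv_productMap (f : B →ₐ[k] C) (g : B' →ₐ[k] C) :
    specEquiv (Algebra.TensorProduct.productMap f g) ≫ specProd.inv = lift (specEquiv f) (specEquiv g) := by
  apply CartesianMonoidalCategory.hom_ext
  · rw [lift_fst, Category.assoc, specProd_inv_fst, ← specEquiv_comp]
    exact congrArg specEquiv (AlgHom.ext fun x => by simp)
  · rw [lift_snd, Category.assoc, specProd_inv_snd, ← specEquiv_comp]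
    exact congrArg specEquiv (AlgHom.ext fun x => by simp)

theorem bijective_of_isIso (φ : B →ₐ[k] C) [IsIso (specEquiv φ)] : Function.Bijective φ := by
  obtain ⟨ψ, hψ⟩ := specEquiv.surjective (inv (specEquiv φ))
  have hid : ∀ (D : Type u) [CommRing D] [Algebra k D], specEquiv (AlgHom.id k D) = 𝟙 (spec k D) := fun D _ _ =>
    Over.OverMorphism.ext (by rw [specEquiv_left, Over.id_left]; exact Spec.map_id _)
  have h1 : φ.comp ψ = AlgHom.id k C := specEquiv.injective (by rw [specEquiv_comp, hψ, IsIso.hom_inv_id, hid])
  have h2 : ψ.comp φ = AlgHom.id k B := specEquiv.injective (by rw [specEquiv_comp, hψ, IsIso.inv_hom_id, hid])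
  exact ⟨Function.LeftInverse.injective (g := ψ) fun x => AlgHom.congr_fun h2 x,
    Function.RightInverse.surjective (g := ψ) fun x => AlgHom.congr_fun h1 x⟩

variable {G P : Over (Spec (CommRingCat.of k))} [GrpObj G]

/-- A torsor of an affine group over an algebraically closed field has a rational point. -/
theorem exists_section [IsAlgClosed k] [IsAffine G.left] (a : AlgGrp.Action G P)
    (hP : NonAbH1.IsTorsorFor Scheme.fpqcPrecoverage a) :
    Nonempty (𝟙_ (Over (Spec (CommRingCat.of k))) ⟶ P) := by
  obtain ⟨A, _, _, ⟨e⟩⟩ := GrpSchLib.AffineHopf.exists_hopf G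
  haveI := EtFound.fpqc_isAffineHom.{u}
  haveI : IsAffineHom G.hom := inferInstance
  haveI : IsAffineHom P.hom := SchTorsor.torsor_property @IsAffineHom hP inferInstance
  haveI : IsAffine P.left := isAffine_of_isAffineHom P.hom
  haveI : Surjective P.hom := SchTorsor.surjective_hom hP
  let ψ := Spec.preimage (P.left.isoSpec.inv ≫ P.hom)
  let B : Type u := Γ(P.left, ⊤)
  letI : Algebra k B := ψ.hom.toAlgebra
  let eP : P ≅ spec k B := Over.isoMk P.left.isoSpec (by
    change P.left.isoSpec.hom ≫ Spec.map ψ = P.hom
    rw [Spec.map_preimage, Iso.hom_inv_id_assoc])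
  haveI : Nontrivial B := by
    obtain ⟨x, -⟩ := P.hom.surjective (default : PrimeSpectrum k)
    exact PrimeSpectrum.nonempty_iff_nontrivial.1 ⟨P.left.isoSpec.hom x⟩
  let eG : spec k A ≅ G := (Grp.forget _).mapIso e
  let γ {C : Type u} [CommRing C] [Algebra k C] (f : A →ₐ[k] C) : spec k C ⟶ G := specEquiv f ≫ eG.hom
  have hγ : ∀ {C : Type u} [CommRing C] [Algebra k C] (f g : A →ₐ[k] C),
      γ (toConv f * toConv g).ofConv = γ f * γ g := fun {C} _ _ f g => by
    show GrpSchLib.AffineHopf.spMap _ ≫ e.hom.hom.hom = _
    rw [← GrpSchLib.AffineHopf.spMap_mul, MonObj.mul_comp]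
    rfl
  let π {C : Type u} [CommRing C] [Algebra k C] (g : B →ₐ[k] C) : spec k C ⟶ P := specEquiv g ≫ eP.inv
  obtain ⟨δ, hδ⟩ := specEquiv.surjective
    ((specProd (k := k) (B := A) (B' := B)).inv ≫ (eG.hom ⊗ₘ eP.inv) ≫ a.act ≫ eP.hom)
  have hact : ∀ {C : Type u} [CommRing C] [Algebra k C] (f : A →ₐ[k] C) (g : B →ₐ[k] C),
      π ((Algebra.TensorProduct.productMap f g).comp δ) = lift (γ f) (π g) ≫ a.act := fun {C} _ _ f g => by
    show specEquiv _ ≫ eP.inv = _
    rw [specEquiv_comp, hδ]
    simp only [Category.assoc, eP.hom_inv_id, Category.comp_id]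
    rw [← Category.assoc (specEquiv _) specProd.inv, specEquiv_productMap, lift_map_assoc]
  have hπ : ∀ {C : Type u} [CommRing C] [Algebra k C] {g g' : B →ₐ[k] C}, π g = π g' → g = g' := fun {C} _ _ g g' h =>
    specEquiv.injective ((cancel_mono eP.inv).1 h)
  have hco : IsCoassoc δ := fun b => by
    let i₁ : A →ₐ[k] A ⊗[k] (A ⊗[k] B) := Algebra.TensorProduct.includeLeft
    let i₂ : A →ₐ[k] A ⊗[k] (A ⊗[k] B) :=
      Algebra.TensorProduct.includeRight.comp Algebra.TensorProduct.includeLeft
    let i₃ : B →ₐ[k] A ⊗[k] (A ⊗[k] B) :=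
      Algebra.TensorProduct.includeRight.comp Algebra.TensorProduct.includeRight
    have h := hπ (show π ((Algebra.TensorProduct.productMap (toConv i₁ * toConv i₂).ofConv i₃).comp δ) =
        π ((Algebra.TensorProduct.productMap i₁ ((Algebra.TensorProduct.productMap i₂ i₃).comp δ)).comp δ) by
      rw [hact, hγ, SchTorsor.act_assoc, hact, hact])
    have h1 : ∀ x : A ⊗[k] B, Algebra.TensorProduct.assoc k k k A A B
        (Algebra.TensorProduct.map (Bialgebra.comulAlgHom k A) (AlgHom.id k B) x) =
          Algebra.TensorProduct.productMap (toConv i₁ * toConv i₂).ofConv i₃ x := fun x => by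
      induction x using TensorProduct.induction_on with
      | zero => simp
      | add x y hx hy => simp only [map_add, hx, hy]
      | tmul p c =>
        rw [Algebra.TensorProduct.map_tmul, Algebra.TensorProduct.productMap_apply_tmul]
        show _ = Algebra.TensorProduct.lmul' k (Algebra.TensorProduct.map i₁ i₂ (Bialgebra.comulAlgHom k A p)) * i₃ c
        generalize Bialgebra.comulAlgHom k A p = y
        induction y using TensorProduct.induction_on with
        | zero => simp
        | add x y hx hy => simp only [map_add, add_tmul, add_mul, hx, hy]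
        | tmul q r => simp [i₁, i₂, i₃]
    have h2 : ∀ x : A ⊗[k] B, Algebra.TensorProduct.map (AlgHom.id k A) δ x =
        Algebra.TensorProduct.productMap i₁ ((Algebra.TensorProduct.productMap i₂ i₃).comp δ) x := fun x => by
      induction x using TensorProduct.induction_on with
      | zero => simp
      | add x y hx hy => simp only [map_add, hx, hy]
      | tmul p c =>
        rw [Algebra.TensorProduct.map_tmul, Algebra.TensorProduct.productMap_apply_tmul, AlgHom.comp_apply]
        generalize δ c = y
        induction y using TensorProduct.induction_on with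
        | zero => simp
        | add x y hx hy => simp only [map_add, tmul_add, mul_add, hx, hy]
        | tmul q r => simp [i₁, i₂, i₃]
    rw [h1, h2]
    exact AlgHom.congr_fun h b
  have hΘ : Function.Bijective (Θ δ) := by
    haveI : IsIso (lift a.act (snd G P)) := hP.1
    have : specEquiv (Θ δ) = (specProd (k := k) (B := A) (B' := B)).inv ≫ (eG.hom ⊗ₘ eP.inv) ≫
        lift a.act (snd G P) ≫ (eP.hom ⊗ₘ eP.hom) ≫ (specProd (k := k) (B := B) (B' := B)).hom := by
      rw [← cancel_mono (specProd (k := k) (B := B) (B' := B)).inv, specEquiv_productMap]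
      simp only [Category.assoc, Iso.hom_inv_id, Category.comp_id]
      apply CartesianMonoidalCategory.hom_ext
      · simp [hδ]
      · simp [← specProd_inv_snd]
    haveI : IsIso (specEquiv (Θ δ)) := by rw [this]; infer_instance
    exact bijective_of_isIso _
  obtain ⟨χ⟩ := exists_point hco hΘ
  exact ⟨(Over.isoMk (Iso.refl _) (by
    show 𝟙 _ ≫ Spec.map (CommRingCat.ofHom (algebraMap k k)) = 𝟙 _
    rw [Category.id_comp]
    exact Spec.map_id _) : 𝟙_ (Over (Spec (CommRingCat.of k))) ≅ spec k k).hom ≫ π χ⟩

end Groth.Agent.NonAbLib.HopfTorsor
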