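import Groth.Prelude.Def_SGA3
import Mathlib.RingTheory.Bialgebra.Basic
import Mathlib.RingTheory.Flat.Basic
import Mathlib.RingTheory.TensorProduct.Maps
import Mathlib.LinearAlgebra.TensorProduct.Finiteness
import Mathlib.Algebra.Algebra.Subalgebra.Directed

/-!
# The quotients of a Hopf torsor by sub-Hopf-algebras

`δ : B →ₐ A ⊗ B` a coassociative coaction with `b ⊗ b' ↦ δ b · (1 ⊗ b')` bijective; for a
sub-Hopf-algebra `S` the algebra `BA δ S = δ⁻¹(S ⊗ B)` satisfies `BA δ S ⊗ B = S ⊗ B`.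
-/

set_option autoImplicit false

universe u

open TensorProduct

noncomputable section

namespace Groth.Agent.NonAbLib.HopfTorsor

variable {k : Type u} [Field k] {A B : Type u} [CommRing A] [HopfAlgebra k A] [CommRing B] [Algebra k B]

/-- Coassociativity of a coaction. -/
def IsCoassoc (δ : B →ₐ[k] A ⊗[k] B) : Prop :=
  ∀ b, Algebra.TensorProduct.assoc k k k A A B
      (Algebra.TensorProduct.map (Bialgebra.comulAlgHom k A) (AlgHom.id k B) (δ b)) =
    Algebra.TensorProduct.map (AlgHom.id k A) δ (δ b)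

/-- `b ⊗ b' ↦ δ b · (1 ⊗ b')`. -/
abbrev Θ (δ : B →ₐ[k] A ⊗[k] B) : B ⊗[k] B →ₐ[k] A ⊗[k] B :=
  Algebra.TensorProduct.productMap δ Algebra.TensorProduct.includeRight

variable (B) in
/-- `S ⊗ B` inside `A ⊗ B`. -/
def inT (S : Subalgebra k A) : Subalgebra k (A ⊗[k] B) :=
  (Algebra.TensorProduct.map S.val (AlgHom.id k B)).range

/-- The preimage of `S ⊗ B`. -/
def BA (δ : B →ₐ[k] A ⊗[k] B) (S : Subalgebra k A) : Subalgebra k B :=
  (inT B S).comap δ

theorem tmul_mem_inT {S : Subalgebra k A} {s : A} (hs : s ∈ S) (c : B) : s ⊗ₜ[k] c ∈ inT B S :=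
  ⟨⟨s, hs⟩ ⊗ₜ c, rfl⟩

theorem inT_mono {S T : Subalgebra k A} (h : S ≤ T) : inT B S ≤ inT B T := by
  rintro _ ⟨z, rfl⟩
  induction z using TensorProduct.induction_on with
  | zero => exact (map_zero (Algebra.TensorProduct.map S.val (AlgHom.id k B))).symm ▸ zero_mem _
  | tmul s c => exact tmul_mem_inT (h s.2) c
  | add x y hx hy => rw [map_add]; exact add_mem hx hy

theorem BA_mono (δ : B →ₐ[k] A ⊗[k] B) {S T : Subalgebra k A} (h : S ≤ T) : BA δ S ≤ BA δ T :=
  fun _ hb => inT_mono h hb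

theorem exists_mem_inT_of_iSup {ι : Type*} [Nonempty ι] {S : ι → Subalgebra k A} (hS : Directed (· ≤ ·) S)
    {x : A ⊗[k] B} (hx : x ∈ inT B (⨆ i, S i)) : ∃ i, x ∈ inT B (S i) := by
  obtain ⟨z, rfl⟩ := hx
  induction z using TensorProduct.induction_on with
  | zero => exact ⟨Classical.arbitrary ι, by rw [map_zero]; exact zero_mem _⟩
  | tmul s c =>
    have hs : (s : A) ∈ ((⨆ i, S i : Subalgebra k A) : Set A) := s.2
    rw [Subalgebra.coe_iSup_of_directed hS, Set.mem_iUnion] at hs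
    obtain ⟨i, hi⟩ := hs
    exact ⟨i, tmul_mem_inT hi c⟩
  | add x y hx hy =>
    obtain ⟨i, hi⟩ := hx
    obtain ⟨j, hj⟩ := hy
    obtain ⟨l, hil, hjl⟩ := hS i j
    exact ⟨l, by rw [map_add]; exact add_mem (inT_mono hil hi) (inT_mono hjl hj)⟩

theorem Θ_tmul (δ : B →ₐ[k] A ⊗[k] B) (b c : B) : Θ δ (b ⊗ₜ c) = δ b * ((1 : A) ⊗ₜ c) := rfl

/-- `(δ ⊗ 1) = (1 ⊗ Θ⁻¹) ∘ (Δ ⊗ 1) ∘ Θ`. -/
theorem delta_tmul_eq {δ : B →ₐ[k] A ⊗[k] B} (hco : IsCoassoc δ) (e : B ⊗[k] B ≃ₐ[k] A ⊗[k] B)
    (he : ∀ z, e z = Θ δ z) (z : B ⊗[k] B) :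
    Algebra.TensorProduct.map δ (AlgHom.id k B) z =
      (Algebra.TensorProduct.assoc k k k A B B).symm (Algebra.TensorProduct.map (AlgHom.id k A) (e.symm : _ →ₐ[k] B ⊗[k] B)
        (Algebra.TensorProduct.assoc k k k A A B
          (Algebra.TensorProduct.map (Bialgebra.comulAlgHom k A) (AlgHom.id k B) (Θ δ z)))) := by
  induction z using TensorProduct.induction_on with
  | zero => simp
  | add x y hx hy => simp only [map_add, hx, hy]
  | tmul b c =>
    have hl : ∀ b, e.symm (δ b) = b ⊗ₜ 1 := fun b => by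
      rw [AlgEquiv.symm_apply_eq, he, Θ_tmul, ← Algebra.TensorProduct.one_def, mul_one]
    have hr : e.symm ((1 : A) ⊗ₜ c) = 1 ⊗ₜ c := by
      rw [AlgEquiv.symm_apply_eq, he, Θ_tmul, map_one, one_mul]
    have h1 : ∀ x : A ⊗[k] B, Algebra.TensorProduct.map (AlgHom.id k A) (e.symm : _ →ₐ[k] B ⊗[k] B)
        (Algebra.TensorProduct.map (AlgHom.id k A) δ x) =
          Algebra.TensorProduct.assoc k k k A B B (x ⊗ₜ 1) := fun x => by
      induction x using TensorProduct.induction_on with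
      | zero => simp
      | tmul a b' => simp [hl]
      | add x y hx hy => simp only [map_add, hx, hy, add_tmul]
    rw [Θ_tmul, map_mul (Algebra.TensorProduct.map (Bialgebra.comulAlgHom k A) (AlgHom.id k B)),
      map_mul (Algebra.TensorProduct.assoc k k k A A B), hco b, map_mul, h1, map_mul, AlgEquiv.symm_apply_apply]
    simp only [Algebra.TensorProduct.map_tmul, map_one, Algebra.TensorProduct.one_def,
      Algebra.TensorProduct.assoc_tmul, AlgHom.id_apply]
    rw [AlgEquiv.coe_toAlgHom, hr, Algebra.TensorProduct.assoc_symm_tmul, Algebra.TensorProduct.tmul_mul_tmul,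
      ← Algebra.TensorProduct.one_def, mul_one, one_mul]

/-- `BA δ S ⊗ B → S ⊗ B` is onto. -/
theorem exists_preimage {δ : B →ₐ[k] A ⊗[k] B} (hco : IsCoassoc δ) (hΘ : Function.Bijective (Θ δ))
    {S : Subalgebra k A} (hS : SGA3.IsHopfSubalgebra k A S) {w : A ⊗[k] B} (hw : w ∈ inT B S) :
    ∃ z ∈ (Algebra.TensorProduct.map (BA δ S).val (AlgHom.id k B)).range, Θ δ z = w := by
  obtain ⟨π, hπ⟩ := S.val.toLinearMap.exists_leftInverse_of_injective
    (LinearMap.ker_eq_bot.2 Subtype.val_injective)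
  let q : A →ₗ[k] A := LinearMap.id - S.val.toLinearMap ∘ₗ π
  have hq : ∀ s : S, q s = 0 := fun s => by
    show (s : A) - (π (S.val.toLinearMap s) : A) = 0
    rw [show π (S.val.toLinearMap s) = s from LinearMap.congr_fun hπ s, sub_self]
  have hdec : ∀ x : A ⊗[k] B, x = Algebra.TensorProduct.map S.val (AlgHom.id k B) (π.rTensor B x) + q.rTensor B x := by
    intro x
    induction x using TensorProduct.induction_on with
    | zero => simp
    | tmul a c =>
      show a ⊗ₜ c = (π a : A) ⊗ₜ c + (a - (π a : A)) ⊗ₜ c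
      rw [← add_tmul, add_sub_cancel]
    | add x y hx hy =>
      conv_lhs => rw [hx, hy]
      simp only [map_add]
      abel
  have hmem : ∀ x : A ⊗[k] B, q.rTensor B x = 0 → x ∈ inT B S := fun x hx => by
    rw [hdec x, hx, add_zero]
    exact ⟨_, rfl⟩
  let e : B ⊗[k] B ≃ₐ[k] A ⊗[k] B := AlgEquiv.ofBijective (Θ δ) hΘ
  let L : B →ₗ[k] A ⊗[k] B := q.rTensor B ∘ₗ δ.toLinearMap
  obtain ⟨v, rfl⟩ := hw
  refine ⟨e.symm (Algebra.TensorProduct.map S.val (AlgHom.id k B) v), ?_, e.apply_symm_apply _⟩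
  have hL : ∀ z : B ⊗[k] B, L.rTensor B z = (q.rTensor B).rTensor B (Algebra.TensorProduct.map δ (AlgHom.id k B) z) := by
    intro z
    induction z using TensorProduct.induction_on with
    | zero => simp
    | tmul b c => rfl
    | add x y hx hy => simp only [map_add, hx, hy]
  have hker : L.rTensor B (e.symm (Algebra.TensorProduct.map S.val (AlgHom.id k B) v)) = 0 := by
    rw [hL, delta_tmul_eq hco e (fun z => rfl)]
    rw [show Θ δ (e.symm (Algebra.TensorProduct.map S.val (AlgHom.id k B) v)) =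
      Algebra.TensorProduct.map S.val (AlgHom.id k B) v from e.apply_symm_apply _]
    induction v using TensorProduct.induction_on with
    | zero => simp
    | add x y hx hy => simp only [map_add, hx, hy, add_zero]
    | tmul s c =>
      rw [Algebra.TensorProduct.map_tmul, Algebra.TensorProduct.map_tmul]
      obtain ⟨y, hy⟩ := hS.1 _ s.2
      rw [show (Bialgebra.comulAlgHom k A) (S.val s) = CoalgebraStruct.comul (R := k) (s : A) from rfl, ← hy]
      clear hy
      induction y using TensorProduct.induction_on with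
      | zero => simp
      | add x y hx hy => simp only [map_add, add_tmul, hx, hy, add_zero]
      | tmul s₁ s₂ =>
        simp only [TensorProduct.map_tmul, Algebra.TensorProduct.assoc_tmul, Algebra.TensorProduct.map_tmul,
          AlgHom.id_apply]
        generalize (e.symm : _ →ₐ[k] B ⊗[k] B) (S.val.toLinearMap s₂ ⊗ₜ[k] c) = u
        induction u using TensorProduct.induction_on with
        | zero => simp
        | add x y hx hy => simp only [tmul_add, map_add, hx, hy, add_zero]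
        | tmul b b' =>
          rw [Algebra.TensorProduct.assoc_symm_tmul]
          show (q (s₁ : A) ⊗ₜ[k] b) ⊗ₜ[k] b' = 0
          rw [hq, zero_tmul, zero_tmul]
  obtain ⟨y, hy⟩ := ((Module.Flat.rTensor_exact (M := B) L.exact_subtype_ker_map) _).1 hker
  rw [← hy]
  clear hy hker
  induction y using TensorProduct.induction_on with
  | zero => simp
  | add x y hx hy => rw [map_add]; exact add_mem hx hy
  | tmul b c => exact ⟨⟨b.1, hmem _ (LinearMap.mem_ker.1 b.2)⟩ ⊗ₜ c, rfl⟩

end Groth.Agent.NonAbLib.HopfTorsor
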